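import Groth.Agent.RelCechLib.Main
import Groth.Agent.S12131

/-!
# Base change of the relative Čech complex
-/

set_option autoImplicit false
set_option backward.isDefEq.respectTransparency false
set_option linter.style.haveILetI false
set_option linter.unusedSectionVars false

universe u

open CategoryTheory CategoryTheory.Limits AlgebraicGeometry TopologicalSpace Opposite

noncomputable section

namespace Groth.Agent.RelCechLib

variable {X S X' S' : Scheme.{u}} {f : X ⟶ S} {g : S' ⟶ S} {g' : X' ⟶ X} {f' : X' ⟶ S'}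

/-- The unit of restriction to an open. -/
abbrev unitR (W : X.Opens) (F : X.Modules) : F ⟶ (CechOX.pushRestr W).obj F :=
  (Scheme.Modules.restrictAdjunction W.ι).unit.app F

theorem unitR_map {W V : X.Opens} (h : V ≤ W) (F : X.Modules) :
    unitR W F ≫ CechOX.pushRestrMapApp h F = unitR V F := by
  apply Scheme.Modules.hom_ext
  intro U
  rw [Scheme.Modules.Hom.comp_app, Scheme.Modules.restrictAdjunction_unit_app_app,
    Scheme.Modules.restrictAdjunction_unit_app_app]
  refine (congrArg (F.presheaf.map (homOfLE (W.ι.image_preimage_le U)).op ≫ ·) (CechOX.pushRestrMapApp_app h F U)).trans ?_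
  exact (F.presheaf.map_comp (homOfLE (W.ι.image_preimage_le U)).op (homOfLE (CechOX.image_preimage_mono h U)).op).symm

theorem isIso_restrict_unitR {W V : X.Opens} (h : V ≤ W) (F : X.Modules) :
    IsIso ((Scheme.Modules.restrictFunctor V.ι).map (unitR W F)) := by
  haveI hU : ∀ U, IsIso (((Scheme.Modules.toPresheaf _).map ((Scheme.Modules.restrictFunctor V.ι).map (unitR W F))).app U) := by
    intro U
    show IsIso ((unitR W F).app (V.ι ''ᵁ U.unop))
    erw [Scheme.Modules.restrictAdjunction_unit_app_app]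
    have e : W.ι ''ᵁ (W.ι ⁻¹ᵁ (V.ι ''ᵁ U.unop)) = V.ι ''ᵁ U.unop := by
      rw [Scheme.Hom.image_preimage_eq_opensRange_inf, Scheme.Opens.opensRange_ι]
      exact inf_eq_right.2 (((V.ι.image_mono le_top).trans (le_of_eq (by simp))).trans h)
    rw [show (homOfLE (W.ι.image_preimage_le (V.ι ''ᵁ U.unop))).op = (eqToHom e).op from rfl]
    infer_instance
  haveI := NatIso.isIso_of_isIso_app
    ((Scheme.Modules.toPresheaf _).map ((Scheme.Modules.restrictFunctor V.ι).map (unitR W F)))
  exact isIso_of_reflects_iso ((Scheme.Modules.restrictFunctor V.ι).map (unitR W F)) (Scheme.Modules.toPresheaf _)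

/-- Maps out of a direct image of a restriction into a direct image from a smaller open. -/
theorem ext_pushRestr {W V : X.Opens} (h : V ≤ W) (F : X.Modules) (N : (V : Scheme.{u}).Modules)
    (a b : (CechOX.pushRestr W).obj F ⟶ (Scheme.Modules.pushforward V.ι).obj N)
    (e : unitR W F ≫ a = unitR W F ≫ b) : a = b := by
  haveI := isIso_restrict_unitR h F
  refine ((Scheme.Modules.restrictAdjunction V.ι).homEquiv _ _).symm.injective ?_
  rw [Adjunction.homEquiv_counit, Adjunction.homEquiv_counit]
  refine congrArg (· ≫ _) ((@cancel_epi _ _ _ _ _ ((Scheme.Modules.restrictFunctor V.ι).map (unitR W F))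
    (IsIso.epi_of_iso _) _ _).1 ?_)
  rw [← Functor.map_comp, ← Functor.map_comp, e]

section square

variable (g') {W : X.Opens} {W' : X'.Opens} (hW : W' ≤ g' ⁻¹ᵁ W)

/-- Direct images along the square of an open and an open over it. -/
def sqIso : Scheme.Modules.pushforward (g'.resLE W W' hW) ⋙ Scheme.Modules.pushforward W.ι ≅
    Scheme.Modules.pushforward W'.ι ⋙ Scheme.Modules.pushforward g' :=
  Scheme.Modules.pushforwardComp _ _ ≪≫ Scheme.Modules.pushforwardCongr (g'.resLE_comp_ι hW) ≪≫
    (Scheme.Modules.pushforwardComp _ _).symm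

variable (F : X.Modules) {G : X'.Modules} (η : F ⟶ (Scheme.Modules.pushforward g').obj G)

/-- The map on the open. -/
def zeta : (Scheme.Modules.restrictFunctor W.ι).obj F ⟶
    (Scheme.Modules.pushforward (g'.resLE W W' hW)).obj ((Scheme.Modules.restrictFunctor W'.ι).obj G) :=
  ((Scheme.Modules.restrictAdjunction W.ι).homEquiv _ _).symm
    (η ≫ (Scheme.Modules.pushforward g').map (unitR W' G) ≫
      (sqIso g' hW).inv.app ((Scheme.Modules.restrictFunctor W'.ι).obj G))

/-- The component of the comparison. -/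
def phi : (CechOX.pushRestr W).obj F ⟶ (Scheme.Modules.pushforward g').obj ((CechOX.pushRestr W').obj G) :=
  (Scheme.Modules.pushforward W.ι).map (zeta g' hW F η) ≫
    (sqIso g' hW).hom.app ((Scheme.Modules.restrictFunctor W'.ι).obj G)

theorem unit_phi : unitR W F ≫ phi g' hW F η = η ≫ (Scheme.Modules.pushforward g').map (unitR W' G) := by
  have h : ((Scheme.Modules.restrictAdjunction W.ι).homEquiv _ _) (zeta g' hW F η) =
      η ≫ (Scheme.Modules.pushforward g').map (unitR W' G) ≫
        (sqIso g' hW).inv.app ((Scheme.Modules.restrictFunctor W'.ι).obj G) := Equiv.apply_symm_apply _ _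
  rw [Adjunction.homEquiv_unit] at h
  refine (Category.assoc _ _ _).symm.trans ((congrArg (· ≫ _) h).trans ?_)
  refine (Category.assoc _ _ _).trans (congrArg (η ≫ ·) ?_)
  refine (Category.assoc _ _ _).trans ((congrArg (_ ≫ ·) ((sqIso g' hW).inv_hom_id_app _)).trans (Category.comp_id _))

theorem phi_natural {V : X.Opens} {V' : X'.Opens} (hV : V' ≤ g' ⁻¹ᵁ V) (h : V ≤ W) (h' : V' ≤ W') :
    CechOX.pushRestrMapApp h F ≫ phi g' hV F η =
      phi g' hW F η ≫ (Scheme.Modules.pushforward g').map (CechOX.pushRestrMapApp h' G) := by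
  refine (cancel_mono ((sqIso g' hV).inv.app ((Scheme.Modules.restrictFunctor V'.ι).obj G))).1 ?_
  refine ext_pushRestr h F _ _ _ ?_
  simp only [← Category.assoc]
  refine congrArg (· ≫ _) ?_
  rw [unitR_map h F, unit_phi, unit_phi, Category.assoc, ← Functor.map_comp, unitR_map h' G]

end square

/-- The comparison on an open, from the pullback. -/
abbrev eta (g' : X' ⟶ X) (F : X.Modules) :
    F ⟶ (Scheme.Modules.pushforward g').obj ((Scheme.Modules.pullback g').obj F) :=
  (Scheme.Modules.pullbackPushforwardAdjunction g').unit.app F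

theorem isIso_zeta_adjunct (g' : X' ⟶ X) {W : X.Opens} {W' : X'.Opens} (hW : W' ≤ g' ⁻¹ᵁ W) (F : X.Modules) :
    IsIso (((Scheme.Modules.pullbackPushforwardAdjunction (g'.resLE W W' hW)).homEquiv _ _).symm
      (zeta g' hW F (eta g' F))) := by
  let adj1 := (Scheme.Modules.restrictAdjunction W.ι).comp
    (Scheme.Modules.pullbackPushforwardAdjunction (g'.resLE W W' hW))
  let adj2 := ((Scheme.Modules.pullbackPushforwardAdjunction g').comp
    (Scheme.Modules.restrictAdjunction W'.ι)).ofNatIsoRight (sqIso g' hW).symm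
  have e : ((Scheme.Modules.pullbackPushforwardAdjunction (g'.resLE W W' hW)).homEquiv _ _).symm
      (zeta g' hW F (eta g' F)) = (adj1.leftAdjointUniq adj2).hom.app F := by
    refine (adj1.homEquiv _ _).injective ?_
    refine Eq.trans ?_ (Adjunction.homEquiv_leftAdjointUniq_hom_app adj1 adj2 F).symm
    rw [Adjunction.comp_homEquiv]
    simp only [Equiv.trans_apply, zeta, Equiv.apply_symm_apply]
    simp [adj2, Adjunction.ofNatIsoRight, unitR, eta]
  rw [e]
  infer_instance

section component

variable (h : IsPullback g' f' f g)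

/-- Direct images along the square. -/
def bigIso : Scheme.Modules.pushforward g' ⋙ Scheme.Modules.pushforward f ≅
    Scheme.Modules.pushforward f' ⋙ Scheme.Modules.pushforward g :=
  Scheme.Modules.pushforwardComp _ _ ≪≫ Scheme.Modules.pushforwardCongr h.w ≪≫
    (Scheme.Modules.pushforwardComp _ _).symm

variable (F : X.Modules) {W : X.Opens} {W' : X'.Opens} (hW : W' ≤ g' ⁻¹ᵁ W)

/-- The adjunct of a component. -/
def compA : (Scheme.Modules.pushforward f).obj ((CechOX.pushRestr W).obj F) ⟶ (Scheme.Modules.pushforward g).obj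
    ((Scheme.Modules.pushforward f').obj ((CechOX.pushRestr W').obj ((Scheme.Modules.pullback g').obj F))) :=
  (Scheme.Modules.pushforward f).map (phi g' hW F (eta g' F)) ≫
    (bigIso h).hom.app ((CechOX.pushRestr W').obj ((Scheme.Modules.pullback g').obj F))

/-- A component of the base change map. -/
def compC : (Scheme.Modules.pullback g).obj ((Scheme.Modules.pushforward f).obj ((CechOX.pushRestr W).obj F)) ⟶
    (Scheme.Modules.pushforward f').obj ((CechOX.pushRestr W').obj ((Scheme.Modules.pullback g').obj F)) :=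
  ((Scheme.Modules.pullbackPushforwardAdjunction g).homEquiv _ _).symm (compA h F hW)

theorem compC_natural {V : X.Opens} {V' : X'.Opens} (hV : V' ≤ g' ⁻¹ᵁ V) (hl : V ≤ W) (hl' : V' ≤ W') :
    (Scheme.Modules.pullback g).map ((Scheme.Modules.pushforward f).map (CechOX.pushRestrMapApp hl F)) ≫ compC h F hV =
      compC h F hW ≫ (Scheme.Modules.pushforward f').map
        (CechOX.pushRestrMapApp hl' ((Scheme.Modules.pullback g').obj F)) := by
  refine (Adjunction.homEquiv_naturality_left_symm _ _ _).symm.trans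
    (Eq.trans ?_ (Adjunction.homEquiv_naturality_right_symm _ _ _))
  refine congrArg _ ?_
  rw [compA, compA, ← Category.assoc, ← Functor.map_comp, phi_natural g' hW F (eta g' F) hV hl hl', Functor.map_comp,
    Category.assoc, Category.assoc]
  exact congrArg (_ ≫ ·) ((bigIso h).hom.naturality _)

variable (hW' : W' = g' ⁻¹ᵁ W)

include h hW' in
theorem isPullback_open :
    IsPullback (g'.resLE W W' hW) (W'.ι ≫ f') (W.ι ≫ f) g := by
  subst hW'
  have e : g'.resLE W (g' ⁻¹ᵁ W) hW = g' ∣_ W := by
    rw [← cancel_mono W.ι, Scheme.Hom.resLE_comp_ι, morphismRestrict_ι]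
  rw [e]
  exact (isPullback_morphismRestrict g' W).paste_vert h

set_option maxHeartbeats 1000000 in
include hW' in
theorem isIso_compC [Coh.IsQCoh F] [IsAffineHom (W.ι ≫ f)] : IsIso (compC h F hW) := by
  have sq := isPullback_open h hW hW'
  let κ := ((Scheme.Modules.pullbackPushforwardAdjunction (g'.resLE W W' hW)).homEquiv _ _).symm
    (zeta g' hW F (eta g' F))
  haveI : IsIso κ := isIso_zeta_adjunct g' hW F
  let M := (Scheme.Modules.restrictFunctor W.ι).obj F
  let N := (Scheme.Modules.pullback (g'.resLE W W' hW)).obj M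
  let b := ((Scheme.Modules.pullbackPushforwardAdjunction g).homEquiv ((Scheme.Modules.pushforward (W.ι ≫ f)).obj M)
      ((Scheme.Modules.pushforward (W'.ι ≫ f')).obj N)).symm
      ((Scheme.Modules.pushforward (W.ι ≫ f)).map
          ((Scheme.Modules.pullbackPushforwardAdjunction (g'.resLE W W' hW)).unit.app M) ≫
        (Scheme.Modules.pushforwardComp (g'.resLE W W' hW) (W.ι ≫ f)).hom.app N ≫
        (Scheme.Modules.pushforwardCongr sq.w).hom.app N ≫
        (Scheme.Modules.pushforwardComp (W'.ι ≫ f') g).inv.app N)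
  haveI hb : IsIso b := Groth.Agent.S12131.result (W.ι ≫ f) g (g'.resLE W W' hW) (W'.ι ≫ f') sq M
  have e : compC h F hW =
      (Scheme.Modules.pullback g).map ((Scheme.Modules.pushforwardComp W.ι f).hom.app M) ≫ b ≫
        (Scheme.Modules.pushforward (W'.ι ≫ f')).map κ ≫
        (Scheme.Modules.pushforwardComp W'.ι f').inv.app _ := by
    refine ((Scheme.Modules.pullbackPushforwardAdjunction g).homEquiv _ _).injective ?_
    refine (Equiv.apply_symm_apply _ _).trans ?_
    rw [Adjunction.homEquiv_naturality_left]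
    erw [Adjunction.homEquiv_naturality_right, Equiv.apply_symm_apply]
    have hz : zeta g' hW F (eta g' F) =
        (Scheme.Modules.pullbackPushforwardAdjunction (g'.resLE W W' hW)).unit.app M ≫
          (Scheme.Modules.pushforward (g'.resLE W W' hW)).map κ := by
      exact (((Scheme.Modules.pullbackPushforwardAdjunction (g'.resLE W W' hW)).homEquiv _ _).apply_symm_apply
        (zeta g' hW F (eta g' F))).symm.trans (Adjunction.homEquiv_unit _ _ _ _)
    apply Scheme.Modules.hom_ext
    intro U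
    simp [compA, phi, hz, sqIso, bigIso, ← Functor.map_comp]
    erw [Category.id_comp, Category.id_comp]
    refine congrArg (_ ≫ ·) ?_
    erw [CechOX.app_naturality κ]
    refine congrArg (_ ≫ ·) ?_
    rw [eqToHom_map, eqToHom_map]
    simp only [eqToHom_map, eqToHom_trans]
  rw [e]
  infer_instance

end component

section complexes

variable {ι : Type u} (𝒰 : ι → X.Opens)

/-- The preimages. -/
abbrev pre (g' : X' ⟶ X) (i : ι) : X'.Opens := g' ⁻¹ᵁ 𝒰 i

theorem prod_pre_eq {n : ℕ} (i : Fin (n + 1) → ι) :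
    (piObj (pre 𝒰 g' ∘ i) : X'.Opens) = g' ⁻¹ᵁ (piObj (𝒰 ∘ i) : X.Opens) := by
  apply le_antisymm
  · intro x hx
    show g' x ∈ (piObj (𝒰 ∘ i) : X.Opens)
    have h : ∀ a, g' x ∈ (𝒰 ∘ i) a := fun a => leOfHom (Pi.π (pre 𝒰 g' ∘ i) a) hx
    have hle : (Finset.univ.inf (𝒰 ∘ i)) ≤ (piObj (𝒰 ∘ i) : X.Opens) :=
      leOfHom (Pi.lift fun a => homOfLE (Finset.inf_le (Finset.mem_univ a)))
    refine hle (SetLike.mem_coe.1 ?_)
    rw [TopologicalSpace.Opens.coe_finset_inf, Finset.inf_eq_iInf]
    simpa using h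
  · exact leOfHom (Pi.lift fun a => homOfLE (g'.preimage_mono (leOfHom (Pi.π (𝒰 ∘ i) a))))

variable (h : IsPullback g' f' f g) (F : X.Modules)

/-- The terms downstairs. -/
abbrev tm (n : ℕ) (i : Fin (n + 1) → ι) : X.Modules := CechResLib.T 𝒰 F n i

/-- The terms upstairs. -/
abbrev tm' (g' : X' ⟶ X) (n : ℕ) (i : Fin (n + 1) → ι) : X'.Modules :=
  CechResLib.T (pre 𝒰 g') ((Scheme.Modules.pullback g').obj F) n i

/-- The base change map on a component. -/
def compI (n : ℕ) (i : Fin (n + 1) → ι) :
    (Scheme.Modules.pullback g).obj ((Scheme.Modules.pushforward f).obj (tm 𝒰 F n i)) ⟶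
      (Scheme.Modules.pushforward f').obj (tm' 𝒰 F g' n i) :=
  compC h F (prod_pre_eq 𝒰 i).le

variable [Finite ι]

instance preservesLimit_tm' (n : ℕ) :
    PreservesLimit (Discrete.functor (tm' 𝒰 F g' n)) (Scheme.Modules.pushforward f') := by
  haveI : PreservesFiniteProducts (Scheme.Modules.pushforward f') := inferInstance
  haveI : PreservesLimitsOfShape (Discrete (Fin (n + 1) → ι)) (Scheme.Modules.pushforward f') := inferInstance
  infer_instance

/-- The base change map in a degree. -/
def degMap (n : ℕ) : (Scheme.Modules.pullback g).obj ((Scheme.Modules.pushforward f).obj (∏ᶜ tm 𝒰 F n)) ⟶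
    (Scheme.Modules.pushforward f').obj (∏ᶜ tm' 𝒰 F g' n) :=
  Pi.lift (fun i => (Scheme.Modules.pullback g).map ((Scheme.Modules.pushforward f).map (Pi.π _ i)) ≫ compI 𝒰 h F n i) ≫
    (PreservesProduct.iso (Scheme.Modules.pushforward f') (tm' 𝒰 F g' n)).inv

theorem degMap_π (n : ℕ) (i : Fin (n + 1) → ι) :
    degMap 𝒰 h F n ≫ (Scheme.Modules.pushforward f').map (Pi.π (tm' 𝒰 F g' n) i) =
      (Scheme.Modules.pullback g).map ((Scheme.Modules.pushforward f).map (Pi.π (tm 𝒰 F n) i)) ≫ compI 𝒰 h F n i := by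
  have e : (PreservesProduct.iso (Scheme.Modules.pushforward f') (tm' 𝒰 F g' n)).inv ≫
      (Scheme.Modules.pushforward f').map (Pi.π (tm' 𝒰 F g' n) i) =
      Pi.π (fun j => (Scheme.Modules.pushforward f').obj (tm' 𝒰 F g' n j)) i := by
    rw [Iso.inv_comp_eq, PreservesProduct.iso_hom, piComparison_comp_π]
  rw [degMap, Category.assoc, e]
  exact limit.lift_π _ _

theorem hom_ext_tm' {A : S'.Modules} {n : ℕ} {a b : A ⟶ (Scheme.Modules.pushforward f').obj (∏ᶜ tm' 𝒰 F g' n)}
    (e : ∀ i, a ≫ (Scheme.Modules.pushforward f').map (Pi.π (tm' 𝒰 F g' n) i) =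
      b ≫ (Scheme.Modules.pushforward f').map (Pi.π (tm' 𝒰 F g' n) i)) : a = b := by
  refine (cancel_mono (PreservesProduct.iso (Scheme.Modules.pushforward f') (tm' 𝒰 F g' n)).hom).1
    (Pi.hom_ext _ _ fun i => ?_)
  simp only [PreservesProduct.iso_hom, Category.assoc, piComparison_comp_π]
  exact e i

variable [(Scheme.Modules.pullback g).Additive]

theorem isIso_degMap (n : ℕ) [Coh.IsQCoh F]
    (haff : ∀ i : Fin (n + 1) → ι, IsAffineHom ((piObj (𝒰 ∘ i) : X.Opens).ι ≫ f)) :
    IsIso (degMap 𝒰 h F n) := by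
  haveI : ∀ i, IsIso (compI 𝒰 h F n i) := fun i =>
    haveI := haff i
    isIso_compC h F _ (prod_pre_eq 𝒰 i)
  let P := Scheme.Modules.pushforward f ⋙ Scheme.Modules.pullback g
  haveI : PreservesFiniteProducts P := inferInstance
  haveI : PreservesLimitsOfShape (Discrete (Fin (n + 1) → ι)) P := inferInstance
  have e : degMap 𝒰 h F n = ((PreservesProduct.iso P (tm 𝒰 F n)) ≪≫ Pi.mapIso (fun i => asIso (compI 𝒰 h F n i)) ≪≫
      (PreservesProduct.iso (Scheme.Modules.pushforward f') (tm' 𝒰 F g' n)).symm).hom := by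
    refine congrArg (· ≫ _) (Pi.hom_ext _ _ fun i => ?_) |>.trans (Category.assoc _ _ _)
    simp only [Pi.lift_π, PreservesProduct.iso_hom, Category.assoc, Pi.map_π, asIso_hom]
    have hm : (Pi.mapIso fun j => asIso (compI 𝒰 h F n j)).hom ≫
        Pi.π (fun j => (Scheme.Modules.pushforward f').obj (tm' 𝒰 F g' n j)) i =
        Pi.π (fun j => P.obj (tm 𝒰 F n j)) i ≫ compI 𝒰 h F n i := by
      simp [Pi.mapIso, P]
    refine Eq.trans ?_ (congrArg (piComparison P (tm 𝒰 F n) ≫ ·) hm).symm
    exact (congrArg (· ≫ compI 𝒰 h F n i) (piComparison_comp_π P (tm 𝒰 F n) i)).symm.trans (Category.assoc _ _ _)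
  rw [e]
  infer_instance

theorem degMap_comm (n : ℕ) :
    degMap 𝒰 h F n ≫ (Scheme.Modules.pushforward f').map
        ((CechResLib.cx (pre 𝒰 g') ((Scheme.Modules.pullback g').obj F)).d n (n + 1)) =
      (Scheme.Modules.pullback g).map ((Scheme.Modules.pushforward f).map ((CechResLib.cx 𝒰 F).d n (n + 1))) ≫
        degMap 𝒰 h F (n + 1) := by
  refine hom_ext_tm' 𝒰 F fun i => ?_
  refine (Category.assoc _ _ _).trans (Eq.trans ?_ (Category.assoc _ _ _).symm)
  refine (congrArg (degMap 𝒰 h F n ≫ ·) ((Functor.map_comp _ _ _).symm.trans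
    (congrArg (Scheme.Modules.pushforward f').map (CechResLib.d_π (pre 𝒰 g') _ n i)))).trans ?_
  refine Eq.trans ?_ (congrArg (_ ≫ ·) (degMap_π 𝒰 h F (n + 1) i)).symm
  refine Eq.trans ?_ ((congrArg (· ≫ compI 𝒰 h F (n + 1) i) (((congrArg
    (fun t => (Scheme.Modules.pullback g).map ((Scheme.Modules.pushforward f).map t))
    (CechResLib.d_π 𝒰 F n i)).symm).trans ((congrArg (Scheme.Modules.pullback g).map (Functor.map_comp _ _ _)).trans
      (Functor.map_comp _ _ _)))).trans (Category.assoc _ _ _))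
  simp only [Functor.map_sum, Functor.map_zsmul, Preadditive.sum_comp, Preadditive.comp_sum, Preadditive.zsmul_comp,
    Preadditive.comp_zsmul]
  refine Finset.sum_congr rfl fun j _ => congrArg (((-1 : ℤ) ^ (j : ℕ)) • ·) ?_
  refine (congrArg (degMap 𝒰 h F n ≫ ·) (Functor.map_comp _ _ _)).trans
    ((Category.assoc _ _ _).symm.trans ((congrArg (· ≫ _) (degMap_π 𝒰 h F n (i ∘ j.succAbove))).trans ?_))
  refine ((Category.assoc _ _ _).trans (congrArg (_ ≫ ·)
    (compC_natural h F (prod_pre_eq 𝒰 (i ∘ j.succAbove)).le (prod_pre_eq 𝒰 i).le (CechResLib.prod_comp_le 𝒰 i j.succAbove)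
      (CechResLib.prod_comp_le (pre 𝒰 g') i j.succAbove)).symm)).trans ?_
  refine (Category.assoc _ _ _).symm.trans (congrArg (· ≫ _) ?_)
  rw [← Functor.map_comp, ← Functor.map_comp]

/-- Base change of the relative Čech complex. -/
def bcIso [Coh.IsQCoh F]
    (haff : ∀ (n : ℕ) (i : Fin (n + 1) → ι), IsAffineHom ((piObj (𝒰 ∘ i) : X.Opens).ι ≫ f)) :
    ((Scheme.Modules.pullback g).mapHomologicalComplex (ComplexShape.up ℕ)).obj ((CechOX.relCech 𝒰 f).obj F) ≅
      (CechOX.relCech (pre 𝒰 g') f').obj ((Scheme.Modules.pullback g').obj F) :=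
  HomologicalComplex.Hom.isoOfComponents (fun n => @asIso _ _ _ _ (degMap 𝒰 h F n) (isIso_degMap 𝒰 h F n (haff n)))
    fun n m hnm => by
      obtain rfl : n + 1 = m := hnm
      exact degMap_comm 𝒰 h F n

end complexes

end Groth.Agent.RelCechLib
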