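import Groth.Agent.DCohMore.RpushAcyc
import Groth.Agent.SpSeqLib.AcyclicResolution
import Groth.Agent.CechResLib.Main
import Groth.Agent.S5744

/-!
# The relative Čech complex computes derived direct images
-/

set_option autoImplicit false
set_option backward.isDefEq.respectTransparency false
set_option linter.style.haveILetI false
set_option linter.unusedSectionVars false

universe u

open CategoryTheory CategoryTheory.Limits AlgebraicGeometry TopologicalSpace

attribute [local instance] HasDerivedCategory.standard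

noncomputable section

namespace Groth.Agent.RelCechLib

open Groth.Agent.DCohLib Groth.Agent.DCohMore

variable {X S : Scheme.{u}}

theorem isAffineHom_of_comp_diag {W : Scheme.{u}} (g : W ⟶ X) [IsAffineHom (pullback.diagonal (terminal.from X))]
    [IsAffineHom (g ≫ terminal.from X)] : IsAffineHom g :=
  haveI := (MorphismProperty.hasOfPostcompProperty_iff_le_diagonal (P := @IsAffineHom)
    (Q := MorphismProperty.diagonal @IsAffineHom)).mpr le_rfl
  MorphismProperty.of_postcomp (W := @IsAffineHom) (W' := MorphismProperty.diagonal @IsAffineHom) g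
    (terminal.from X) ‹IsAffineHom (pullback.diagonal (terminal.from X))› ‹IsAffineHom (g ≫ terminal.from X)›

theorem isAffineHom_ι [IsAffineHom (pullback.diagonal (terminal.from X))] {W : X.Opens} (hW : IsAffineOpen W) :
    IsAffineHom W.ι := by
  haveI : IsAffine (W : Scheme.{u}) := hW
  haveI : IsAffineHom (W.ι ≫ terminal.from X) := inferInstance
  exact isAffineHom_of_comp_diag W.ι

theorem isAffineOpen_inf [IsAffineHom (pullback.diagonal (terminal.from X))] {U V : X.Opens}
    (hU : IsAffineOpen U) (hV : IsAffineOpen V) : IsAffineOpen (U ⊓ V) := by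
  haveI := isAffineHom_ι hU
  have h := (hV.preimage U.ι).image_of_isOpenImmersion U.ι
  rwa [Scheme.Hom.image_preimage_eq_opensRange_inf, Scheme.Opens.opensRange_ι] at h

theorem isAffineOpen_prod [IsAffineHom (pullback.diagonal (terminal.from X))] :
    ∀ {n : ℕ} (U : Fin (n + 1) → X.Opens), (∀ i, IsAffineOpen (U i)) → IsAffineOpen (∏ᶜ U) := by
  intro n U hU
  have h : ∏ᶜ U = ⨅ i, U i :=
    le_antisymm (le_iInf fun i => leOfHom (Pi.π U i)) (leOfHom (Pi.lift fun i => homOfLE (iInf_le U i)))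
  rw [h]
  clear h
  induction n with
  | zero => simpa [iInf_unique] using hU 0
  | succ n ih =>
    rw [show (⨅ i, U i) = U 0 ⊓ ⨅ i : Fin (n + 1), U i.succ from
      le_antisymm (le_inf (iInf_le U 0) (le_iInf fun i => iInf_le U i.succ))
        (le_iInf fun i => Fin.cases inf_le_left (fun i => inf_le_right.trans (iInf_le (fun i : Fin (n + 1) => U i.succ) i)) i)]
    exact isAffineOpen_inf (hU 0) (ih _ fun i => hU i.succ)

/-- Direct image from an affine morphism with affine composite preserves acyclicity. -/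
theorem isAcyclicFor_push {W : Scheme.{u}} (j : W ⟶ X) [IsOpenImmersion j] [IsAffineHom j] (f : X ⟶ S)
    [IsAffineHom (j ≫ f)] (M : W.Modules) [Coh.IsQCoh M] :
    SpSeqLib.IsAcyclicFor (Scheme.Modules.pushforward f) ((Scheme.Modules.pushforward j).obj M) := by
  haveI : (Scheme.Modules.pushforward j).PreservesInjectiveObjects :=
    Functor.preservesInjectiveObjects_of_adjunction_of_preservesMonomorphisms (Scheme.Modules.restrictAdjunction j)
  let J := injectiveResolution M
  haveI : ∀ n, Injective (J.cocomplex.X n) := J.injective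
  haveI hinj : ∀ n, Injective (((Scheme.Modules.pushforward j).mapHomologicalComplex _).obj J.cocomplex |>.X n) :=
    fun n => Functor.PreservesInjectiveObjects.injective_obj (F := Scheme.Modules.pushforward j) (J.injective n)
  haveI hq : QuasiIso (((Scheme.Modules.pushforward j).mapHomologicalComplex _).map J.ι) := by
    refine SpSeqLib.quasiIso_map_nat (Scheme.Modules.pushforward j) J.ι (fun n => ?_)
      (fun n => SpSeqLib.isAcyclicFor_of_injective _ _)
    rcases n with - | n
    · intro p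
      exact (isAcyclicFor_affine j M p).of_iso
        (((Scheme.Modules.pushforward j).rightDerived (p + 1)).mapIso
          (HomologicalComplex.singleObjXSelf (ComplexShape.up ℕ) 0 M))
    · exact SpSeqLib.isAcyclicFor_of_isZero _ (HomologicalComplex.isZero_single_obj_X _ _ _ _ (by simp))
  let R : InjectiveResolution ((Scheme.Modules.pushforward j).obj M) :=
    { cocomplex := ((Scheme.Modules.pushforward j).mapHomologicalComplex _).obj J.cocomplex
      injective := hinj
      ι := (HomologicalComplex.singleMapHomologicalComplex (Scheme.Modules.pushforward j) _ 0).inv.app M ≫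
        ((Scheme.Modules.pushforward j).mapHomologicalComplex _).map J.ι
      quasiIso := inferInstance }
  intro p
  refine IsZero.of_iso ?_ (R.isoRightDerivedObj (Scheme.Modules.pushforward f) (p + 1))
  exact (isAcyclicFor_affine (j ≫ f) M p).of_iso
    ((HomologicalComplex.homologyFunctor _ _ (p + 1)).mapIso
      ((NatIso.mapHomologicalComplex (Scheme.Modules.pushforwardComp j f) (ComplexShape.up ℕ)).app J.cocomplex) ≪≫
      (J.isoRightDerivedObj (Scheme.Modules.pushforward (j ≫ f)) (p + 1)).symm)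

theorem isAcyclicFor_pi {A B : Type*} [Category A] [Abelian A] [EnoughInjectives A] [Category B] [Abelian B]
    (G : A ⥤ B) [G.Additive] {J : Type*} [Finite J] (T : J → A) [HasProduct T]
    [HasProduct fun j => T j] (h : ∀ j, SpSeqLib.IsAcyclicFor G (T j)) : SpSeqLib.IsAcyclicFor G (∏ᶜ T) := by
  intro p
  haveI := HasFiniteBiproducts.of_hasFiniteProducts (C := A)
  haveI := HasFiniteBiproducts.of_hasFiniteProducts (C := B)
  let Φ : A ⥤ B := DerivedCategory.Plus.singleFunctor A 0 ⋙ (SpSeqLib.rG G).shift ((p + 1 : ℕ) : ℤ)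
  haveI : Φ.Additive := inferInstance
  haveI : PreservesFiniteProducts Φ := inferInstance
  haveI : PreservesLimitsOfShape (Discrete J) Φ := inferInstance
  refine IsZero.of_iso ?_ (SpSeqLib.nonempty_rG_single_iso G (∏ᶜ T) (p + 1)).some.symm
  refine IsZero.of_iso ?_ (show Φ.obj (∏ᶜ T) ≅ ∏ᶜ fun j => Φ.obj (T j) from PreservesProduct.iso Φ T)
  rw [IsZero.iff_id_eq_zero]
  exact Pi.hom_ext _ _ fun j => ((h j p).of_iso (SpSeqLib.nonempty_rG_single_iso G (T j) (p + 1)).some).eq_of_tgt _ _

variable {ι : Type u} (𝒰 : ι → X.Opens) (F : X.Modules)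

theorem isQCoh_restrict [Coh.IsQCoh F] (W : X.Opens) : Coh.IsQCoh ((Scheme.Modules.restrictFunctor W.ι).obj F) :=
  inferInstance

section

variable [Finite ι] [IsAffineHom (pullback.diagonal (terminal.from X))] (h𝒰 : ∀ i, IsAffineOpen (𝒰 i))

include h𝒰 in
theorem isQCoh_term [Coh.IsQCoh F] (p : ℕ) : Coh.IsQCoh (((CechOX.cechSh 𝒰).obj F).X p) :=
  Groth.Agent.S5744.aux_pi (fun i : (Fin (p + 1) → ι) => (CechOX.pushRestr (piObj (𝒰 ∘ i))).obj F) fun i =>
    haveI := isAffineHom_ι (isAffineOpen_prod (𝒰 ∘ i) fun a => h𝒰 (i a))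
    Groth.Agent.QCohLib.isQCoh_pushforward ((Scheme.Modules.restrictFunctor (piObj (𝒰 ∘ i)).ι).obj F) _

include h𝒰 in
theorem isAffineHom_term [IsAffineHom (pullback.diagonal (terminal.from S))] (f : X ⟶ S) (p : ℕ) (i : Fin (p + 1) → ι) :
    IsAffineHom (piObj (𝒰 ∘ i) : X.Opens).ι ∧ IsAffineHom ((piObj (𝒰 ∘ i) : X.Opens).ι ≫ f) := by
  have hW := isAffineOpen_prod (𝒰 ∘ i) fun a => h𝒰 (i a)
  haveI : IsAffine ((piObj (𝒰 ∘ i) : X.Opens) : Scheme.{u}) := hW
  haveI : IsAffineHom (((piObj (𝒰 ∘ i) : X.Opens).ι ≫ f) ≫ terminal.from S) := inferInstance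
  exact ⟨isAffineHom_ι hW, isAffineHom_of_comp_diag ((piObj (𝒰 ∘ i) : X.Opens).ι ≫ f)⟩

end

theorem isAcyclic_term [Finite ι] (f : X ⟶ S) [Coh.IsQCoh F] (p : ℕ)
    (h : ∀ i : Fin (p + 1) → ι,
      IsAffineHom (piObj (𝒰 ∘ i) : X.Opens).ι ∧ IsAffineHom ((piObj (𝒰 ∘ i) : X.Opens).ι ≫ f)) :
    SpSeqLib.IsAcyclicFor (Scheme.Modules.pushforward f) (((CechOX.cechSh 𝒰).obj F).X p) := by
  refine isAcyclicFor_pi (Scheme.Modules.pushforward f)
    (fun i : (Fin (p + 1) → ι) => (CechOX.pushRestr (piObj (𝒰 ∘ i))).obj F) fun i => ?_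
  haveI := (h i).1
  haveI := (h i).2
  exact isAcyclicFor_push (piObj (𝒰 ∘ i) : X.Opens).ι f ((Scheme.Modules.restrictFunctor _).obj F)

/-- The map to the Čech complex of sheaves. -/
def fromSingle : (CochainComplex.single₀ X.Modules).obj F ⟶ (CechOX.cechSh 𝒰).obj F :=
  (((CechOX.cechSh 𝒰).obj F).fromSingle₀Equiv F).symm ⟨CechOX.cechShAug 𝒰 F, CechResLib.aug_d 𝒰 F⟩

theorem quasiIso_fromSingle (hcov : ⨆ i, 𝒰 i = ⊤) : QuasiIso (fromSingle 𝒰 F) := by
  have ha : (fromSingle 𝒰 F).f 0 = CechOX.cechShAug 𝒰 F := by simp [fromSingle]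
  refine ⟨fun n => ?_⟩
  cases n with
  | zero =>
    rw [CochainComplex.quasiIsoAt₀_iff, ShortComplex.quasiIso_iff_of_zeros]
    · haveI := CechResLib.mono_aug 𝒰 hcov F
      refine (ShortComplex.exact_and_mono_f_iff_of_iso ?_).2 ⟨CechResLib.exact_aug 𝒰 hcov F, this⟩
      exact ShortComplex.isoMk (Iso.refl _) (Iso.refl _) (Iso.refl _)
        ((Category.id_comp _).trans (Eq.trans ha.symm (Category.comp_id _).symm))
        ((Category.id_comp _).trans (Category.comp_id _).symm)
    all_goals first | rfl | exact HomologicalComplex.shape _ _ _ (by simp)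
  | succ m =>
    rw [quasiIsoAt_iff_exactAt _ _ (CochainComplex.exactAt_succ_single_obj F m),
      HomologicalComplex.exactAt_iff_isZero_homology]
    exact CechResLib.isZero_homology 𝒰 hcov F m

theorem nonempty_cechShZ_iso (hcov : ⨆ i, 𝒰 i = ⊤) :
    Nonempty (DCoh.inD X F ≅ DCoh.toD X (CechOX.cechShZ 𝒰 F)) := by
  haveI := quasiIso_fromSingle 𝒰 F hcov
  haveI := (HomologicalComplex.quasiIso_extendMap_iff (fromSingle 𝒰 F) ComplexShape.embeddingUpNat).2 inferInstance
  exact ⟨(DerivedCategory.singleFunctorIsoCompQ X.Modules 0).app F ≪≫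
    DerivedCategory.Q.mapIso (HomologicalComplex.extendSingleIso ComplexShape.embeddingUpNat F 0 (0 : ℤ) rfl).symm ≪≫
    asIso (DerivedCategory.Q.map (HomologicalComplex.extendMap (fromSingle 𝒰 F) ComplexShape.embeddingUpNat))⟩

theorem nonempty_relCech_iso_of_affine [Finite ι] (f : X ⟶ S) [DCoh.HasRpush f] [Coh.IsQCoh F]
    (h : ∀ (p : ℕ) (i : Fin (p + 1) → ι),
      IsAffineHom (piObj (𝒰 ∘ i) : X.Opens).ι ∧ IsAffineHom ((piObj (𝒰 ∘ i) : X.Opens).ι ≫ f))
    (hcov : ⨆ i, 𝒰 i = ⊤) :
    Nonempty (DCoh.toD S (CechOX.relCechZ 𝒰 f F) ≅ (DCoh.Rpush f).obj (DCoh.inD X F)) := by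
  obtain ⟨e⟩ := nonempty_cechShZ_iso 𝒰 F hcov
  let K : CochainComplex X.Modules ℤ := CechOX.cechShZ 𝒰 F
  haveI : K.IsStrictlyGE 0 := (CochainComplex.isStrictlyGE_iff _ _).2 fun i hi =>
    HomologicalComplex.isZero_extend_X _ _ _ fun n hn => by
      change (n : ℤ) = i at hn
      omega
  haveI := isIso_rpushUnit_app_bdd f K 0 fun m => by
    by_cases hm : ∃ n : ℕ, ComplexShape.embeddingUpNat.f n = m
    · obtain ⟨n, hn⟩ := hm
      exact fun p => (isAcyclic_term 𝒰 F f n (h n) p).of_iso
        (((Scheme.Modules.pushforward f).rightDerived (p + 1)).mapIso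
          (((CechOX.cechSh 𝒰).obj F).extendXIso ComplexShape.embeddingUpNat hn))
    · exact SpSeqLib.isAcyclicFor_of_isZero _
        (((CechOX.cechSh 𝒰).obj F).isZero_extend_X ComplexShape.embeddingUpNat m fun n hn => hm ⟨n, hn⟩)
  exact ⟨DerivedCategory.Q.mapIso
      (SpSeqLib.mapExtendIso (Scheme.Modules.pushforward f) ((CechOX.cechSh 𝒰).obj F) ComplexShape.embeddingUpNat).symm ≪≫
    (DerivedCategory.quotientCompQhIso S.Modules).symm.app _ ≪≫
    DerivedCategory.Qh.mapIso (((Scheme.Modules.pushforward f).mapHomotopyCategoryFactors _).app K).symm ≪≫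
    asIso ((rpushUnit f).app ((quotM X).obj K)) ≪≫
    (DCoh.Rpush f).mapIso ((DerivedCategory.quotientCompQhIso X.Modules).app K) ≪≫
    (DCoh.Rpush f).mapIso e.symm⟩

theorem nonempty_relCech_iso [Finite ι] [IsAffineHom (pullback.diagonal (terminal.from X))]
    [IsAffineHom (pullback.diagonal (terminal.from S))] (f : X ⟶ S) [DCoh.HasRpush f] [Coh.IsQCoh F]
    (h𝒰 : ∀ i, IsAffineOpen (𝒰 i)) (hcov : ⨆ i, 𝒰 i = ⊤) :
    Nonempty (DCoh.toD S (CechOX.relCechZ 𝒰 f F) ≅ (DCoh.Rpush f).obj (DCoh.inD X F)) :=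
  nonempty_relCech_iso_of_affine 𝒰 F f (fun p i => isAffineHom_term 𝒰 h𝒰 f p i) hcov

end Groth.Agent.RelCechLib
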